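import Cfsg.Agent.Lib.Signalizer.Basic
import Cfsg.Agent.Lib.Tech46.CoprimeGen
import Cfsg.Agent.Lib.Tech46.BalanceAut
import Cfsg.Agent.Lib.Components.Balance
import Cfsg.Agent.Lib.Components.ComponentAction
import Cfsg.Agent.S1293
import Cfsg.Prelude.Def_Balance

/-!
Equivariant signalizer functors on groups with a connected rank two commuting graph, assuming
that solvable signalizer functors on elementary abelian groups of rank three or more are complete.
-/

set_option autoImplicit false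
set_option linter.unusedSectionVars false

namespace CfsgLib.Signalizer63

open Subgroup

universe u

variable {G : Type u} [Group G] [Finite G] {p : ℕ} [hp : Fact p.Prime]

/-- Solvable signalizer functors on elementary abelian groups of rank at least three are complete. -/
def Completion (G : Type u) [Group G] (p : ℕ) : Prop :=
  ∀ (A : Subgroup G) (θ : G → Subgroup G), Cfsg.IsElementaryAbelian p A → p ^ 3 ≤ Nat.card A →
    Cfsg.IsSolvableSignalizerFunctor p A θ →
      ¬ p ∣ Nat.card ↥(⨆ a : {a : G // a ∈ A ∧ a ≠ 1}, θ a) ∧ ∀ a ∈ A, a ≠ 1 →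
        (⨆ b : {a : G // a ∈ A ∧ a ≠ 1}, θ b) ⊓ Subgroup.centralizer {a} = θ a

/-- An element of order `p` whose centralizer has rank at least three. -/
def Deep (p : ℕ) (a : G) : Prop :=
  orderOf a = p ∧ ¬ Cfsg.PRankLE p 2 ↥(centralizer ({a} : Set G))

/-- The join of the values on the non-identity elements of a subgroup. -/
def join (θ : G → Subgroup G) (E : Subgroup G) : Subgroup G :=
  ⨆ a : {a : G // a ∈ E ∧ a ≠ 1}, θ a

theorem le_join (θ : G → Subgroup G) {E : Subgroup G} {a : G} (ha : a ∈ E) (ha1 : a ≠ 1) :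
    θ a ≤ join θ E :=
  le_iSup (fun a : {a : G // a ∈ E ∧ a ≠ 1} => θ a) ⟨a, ha, ha1⟩

theorem elementary_sup {E F : Subgroup G} (hE : Cfsg.IsElementaryAbelian p E)
    (hF : Cfsg.IsElementaryAbelian p F) (hc : ∀ a ∈ E, ∀ b ∈ F, a * b = b * a) :
    Cfsg.IsElementaryAbelian p (E ⊔ F : Subgroup G) := by
  have hEE : E ≤ centralizer (E : Set G) := fun x hx => mem_centralizer_iff.2 fun y hy =>
    (CfsgLib.Signalizer.commute_of_mem hE hy hx)
  have hFF : F ≤ centralizer (F : Set G) := fun x hx => mem_centralizer_iff.2 fun y hy =>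
    (CfsgLib.Signalizer.commute_of_mem hF hy hx)
  have hFE : F ≤ centralizer (E : Set G) := fun x hx => mem_centralizer_iff.2 fun y hy => hc y hy x hx
  have hall : E ⊔ F ≤ centralizer ((E ⊔ F : Subgroup G) : Set G) :=
    sup_le (le_centralizer_iff.1 (sup_le hEE hFE))
      (le_centralizer_iff.1 (sup_le (le_centralizer_iff.1 hFE) hFF))
  have hcomm : ∀ x ∈ E ⊔ F, ∀ y ∈ E ⊔ F, Commute x y := fun x hx y hy =>
    (mem_centralizer_iff.1 (hall hx) y hy).symm
  refine ⟨⟨⟨fun x y => Subtype.ext (hcomm _ x.2 _ y.2).eq⟩⟩, fun x hx => ?_⟩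
  rw [sup_eq_closure] at hx
  induction hx using closure_induction with
  | mem y hy => exact hy.elim (hE.2 y) (hF.2 y)
  | one => exact one_pow p
  | mul y z hy hz ihy ihz =>
    rw [(hcomm y (by rwa [sup_eq_closure]) z (by rwa [sup_eq_closure])).mul_pow, ihy, ihz, one_mul]
  | inv y _ ihy => rw [inv_pow, ihy, inv_one]

theorem pow_three_le {A : Subgroup G} (hA : Cfsg.IsElementaryAbelian p A)
    (h : p ^ 2 < Nat.card A) : p ^ 3 ≤ Nat.card A := by
  obtain ⟨n, hn⟩ := IsPGroup.iff_card.1 (CfsgLib.Signalizer.isPGroup_of_elemAb hA)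
  rw [hn] at h ⊢
  exact Nat.pow_le_pow_right hp.out.pos ((Nat.pow_lt_pow_iff_right hp.out.one_lt).1 h)

theorem not_rankLE {A H : Subgroup G} (hA : Cfsg.IsElementaryAbelian p A)
    (hA3 : p ^ 3 ≤ Nat.card A) (hle : A ≤ H) : ¬ Cfsg.PRankLE p 2 ↥H := fun h => by
  haveI := hA.1
  have h1 := h (A.subgroupOf H) inferInstance fun x hx => Subtype.ext (by
    simpa using hA.2 x hx)
  rw [Nat.card_congr (subgroupOfEquivOfLe hle).toEquiv] at h1
  have := Nat.pow_lt_pow_right hp.out.one_lt (show 2 < 3 by norm_num)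
  omega

theorem exists_rank_three {E : Subgroup G} (hE : Cfsg.IsElementaryAbelian p E)
    (h : ¬ Cfsg.PRankLE p 2 ↥(centralizer (E : Set G))) :
    ∃ A : Subgroup G, E ≤ A ∧ Cfsg.IsElementaryAbelian p A ∧ p ^ 3 ≤ Nat.card A := by
  simp only [Cfsg.PRankLE, not_forall, exists_prop] at h
  obtain ⟨B, hBc, hBp, hB⟩ := h
  let B' := B.map (centralizer (E : Set G)).subtype
  have hB' : Cfsg.IsElementaryAbelian p B' := by
    refine ⟨⟨⟨?_⟩⟩, ?_⟩
    · rintro ⟨_, x, hx, rfl⟩ ⟨_, y, hy, rfl⟩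
      haveI := hBc
      have e := congrArg (fun z : B => ((z : ↥(centralizer (E : Set G))) : G))
        (mul_comm' (⟨x, hx⟩ : B) ⟨y, hy⟩)
      exact Subtype.ext e
    · rintro _ ⟨x, hx, rfl⟩
      rw [← map_pow, hBp x hx, map_one]
  have hs := elementary_sup hE hB' fun a ha b hb => by
    obtain ⟨x, -, rfl⟩ := hb
    exact mem_centralizer_iff.1 x.2 a ha
  refine ⟨E ⊔ B', le_sup_left, hs, pow_three_le hs (lt_of_lt_of_le (not_le.1 hB) ?_)⟩
  rw [← Subgroup.card_map_of_injective (K := B) (centralizer (E : Set G)).subtype_injective]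
  exact Nat.le_of_dvd Nat.card_pos (card_dvd_of_le le_sup_right)

theorem deep_of_mem {A : Subgroup G} (hA : Cfsg.IsElementaryAbelian p A)
    (hA3 : p ^ 3 ≤ Nat.card A) {a : G} (ha : a ∈ A) (ha1 : a ≠ 1) : Deep p a :=
  ⟨orderOf_eq_prime (hA.2 a ha) ha1, not_rankLE hA hA3 fun x hx =>
    mem_centralizer_singleton_iff.2 (CfsgLib.Signalizer.commute_of_mem hA hx ha)⟩

theorem exists_of_deep {a : G} (ha : Deep p a) :
    ∃ A : Subgroup G, a ∈ A ∧ Cfsg.IsElementaryAbelian p A ∧ p ^ 3 ≤ Nat.card A := by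
  have hz : Cfsg.IsElementaryAbelian p (zpowers a) := by
    refine ⟨inferInstance, fun x hx => ?_⟩
    obtain ⟨k, rfl⟩ := mem_zpowers_iff.1 hx
    rw [← zpow_natCast, ← zpow_mul, mul_comm, zpow_mul, zpow_natCast, ← ha.1, pow_orderOf_eq_one, one_zpow]
  obtain ⟨A, hle, hA, hA3⟩ := exists_rank_three hz (by
    rw [CfsgLib.Signalizer.centralizer_zpowers]; exact ha.2)
  exact ⟨A, hle (mem_zpowers a), hA, hA3⟩

theorem isVertex {A E : Subgroup G} (hA : Cfsg.IsElementaryAbelian p A)
    (hA3 : p ^ 3 ≤ Nat.card A) (hE : E ≤ A) (hE2 : p ^ 2 ≤ Nat.card E) :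
    Cfsg.IsRankGraphVertex p 2 E :=
  ⟨CfsgLib.Signalizer.isElementaryAbelian_of_le hA hE, hE2, not_rankLE hA hA3 fun x hx =>
    mem_centralizer_iff.2 fun y hy => (CfsgLib.Signalizer.commute_of_mem hA (hE hy) hx)⟩

variable {θ : G → Subgroup G}
  (hC : ∀ a : G, Deep p a →
    θ a ≤ centralizer ({a} : Set G) ∧ ¬ p ∣ Nat.card ↥(θ a) ∧ Group.IsSolvable ↥(θ a))
  (heq : ∀ a g : G, Deep p a → θ (g * a * g⁻¹) = (θ a).map (MulAut.conj g).toMonoidHom)
  (hbal : ∀ a b : G, Deep p a → Deep p b → a * b = b * a → θ a ⊓ centralizer {b} ≤ θ b)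
  (hcomp : Completion G p)

include hC heq hbal

theorem isFunctor {A : Subgroup G} (hA : Cfsg.IsElementaryAbelian p A)
    (hA3 : p ^ 3 ≤ Nat.card A) : Cfsg.IsSolvableSignalizerFunctor p A θ := by
  refine ⟨⟨fun a ha h1 => (hC a (deep_of_mem hA hA3 ha h1)).1,
    fun a ha h1 => (hC a (deep_of_mem hA hA3 ha h1)).2.1, fun a ha h1 b hb x hx => ?_,
    fun a ha h1 b hb hb1 => hbal a b (deep_of_mem hA hA3 ha h1) (deep_of_mem hA hA3 hb hb1)
      (CfsgLib.Signalizer.commute_of_mem hA ha hb)⟩,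
    fun a ha h1 => (hC a (deep_of_mem hA hA3 ha h1)).2.2⟩
  have e := heq a b (deep_of_mem hA hA3 ha h1)
  rw [show b * a * b⁻¹ = a from by
    rw [(CfsgLib.Signalizer.commute_of_mem hA hb ha), mul_inv_cancel_right]] at e
  rw [e]
  exact ⟨x, hx, rfl⟩

include hcomp

theorem join_eq {A E : Subgroup G} (hA : Cfsg.IsElementaryAbelian p A)
    (hA3 : p ^ 3 ≤ Nat.card A) (hE : E ≤ A) (hE2 : p ^ 2 ≤ Nat.card E) :
    join θ E = join θ A ∧ ¬ p ∣ Nat.card ↥(join θ A) := by
  have hF := isFunctor hC heq hbal hA hA3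
  obtain ⟨hp', hW⟩ := hcomp A θ hA hA3 hF
  have hinv : A ≤ normalizer (join θ A : Set G) := by
    refine CfsgLib.Signalizer.le_normalizer_of_conj fun b hb x hx => ?_
    have : (join θ A).map (MulAut.conj b).toMonoidHom ≤ join θ A := by
      rw [join, Subgroup.map_iSup]
      refine iSup_le fun a => ?_
      rintro _ ⟨y, hy, rfl⟩
      exact le_iSup (fun a : {a : G // a ∈ A ∧ a ≠ 1} => θ a) a (hF.1.2.2.1 a a.2.1 a.2.2 b hb y hy)
    exact this ⟨x, hx, rfl⟩
  have h2 : join θ A ≤ join θ E := by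
    refine CfsgLib.Tech46.le_of_centralizers_corank_one (CfsgLib.Signalizer.isElementaryAbelian_of_le hA hE)
      _ _ hp' (hE.trans hinv) fun B hB hcard => ?_
    obtain ⟨b, hb, hb1⟩ := B.bot_or_exists_ne_one.resolve_left fun h => by
      rw [h, card_bot, mul_one] at hcard
      have := hp.out.one_lt
      nlinarith
    refine le_trans ?_ (le_join θ (hB hb) hb1)
    exact le_trans (inf_le_inf_left _ (centralizer_le (by simpa using hb))) (hW b (hE (hB hb)) hb1).le
  have h3 : join θ E ≤ join θ A := iSup_le fun a => le_join θ (hE a.2.1) a.2.2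
  exact ⟨le_antisymm h3 h2, hp'⟩

theorem join_const (hconn : Cfsg.IsRankGraphConnected p 2 G) {E E' : Subgroup G}
    (hE : Cfsg.IsRankGraphVertex p 2 E) (hE' : Cfsg.IsRankGraphVertex p 2 E') :
    join θ E = join θ E' := by
  have h := hconn E E' hE hE'
  clear hE'
  induction h with
  | refl => rfl
  | @tail X Y _ h ih =>
    refine ih.trans ?_
    obtain ⟨hX, hY, hc⟩ := h
    have hS := elementary_sup hX.1 hY.1 hc
    by_cases h3 : p ^ 2 < Nat.card ↥(X ⊔ Y : Subgroup G)
    · have h3' := pow_three_le hS h3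
      exact (join_eq hC heq hbal hcomp hS h3' le_sup_left hX.2.1).1.trans
        (join_eq hC heq hbal hcomp hS h3' le_sup_right hY.2.1).1.symm
    · rw [eq_of_le_of_card_ge (le_sup_left : X ≤ X ⊔ Y) ((not_lt.1 h3).trans hX.2.1),
        ← eq_of_le_of_card_ge (le_sup_right : Y ≤ X ⊔ Y) ((not_lt.1 h3).trans hY.2.1)]

/-- The values vanish when `O_{p'}(G) = 1`. -/
theorem eq_bot (hO : Cfsg.pPrimeCore p G = ⊥) (hconn : Cfsg.IsRankGraphConnected p 2 G) {a : G}
    (ha : Deep p a) : θ a = ⊥ := by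
  obtain ⟨A, haA, hA, hA3⟩ := exists_of_deep ha
  have hA2 : p ^ 2 ≤ Nat.card A := (Nat.pow_le_pow_right hp.out.pos (by norm_num)).trans hA3
  have hv := isVertex hA hA3 le_rfl hA2
  have hn : (join θ A).Normal := by
    refine ⟨fun x hx g => ?_⟩
    let c := (MulAut.conj g).toMonoidHom
    have hle : (join θ A).map c ≤ join θ A := by
      rw [join, Subgroup.map_iSup]
      refine iSup_le fun b => ?_
      have hd := deep_of_mem hA hA3 b.2.1 b.2.2
      have hA' : Cfsg.IsElementaryAbelian p (A.map c) := by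
        haveI := hA.1
        refine ⟨⟨⟨?_⟩⟩, ?_⟩
        · rintro ⟨_, x, hx, rfl⟩ ⟨_, y, hy, rfl⟩
          refine Subtype.ext ?_
          show c x * c y = c y * c x
          rw [← map_mul, ← map_mul, (CfsgLib.Signalizer.commute_of_mem hA hx hy)]
        · rintro _ ⟨x, hx, rfl⟩
          rw [← map_pow, hA.2 x hx, map_one]
      have hA3' : p ^ 3 ≤ Nat.card ↥(A.map c) := by
        rw [card_map_of_injective (MulAut.conj g).injective]; exact hA3
      rw [← heq (b : G) g hd]
      refine le_trans ?_ (join_const hC heq hbal hcomp hconn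
        (isVertex hA' hA3' le_rfl ((Nat.pow_le_pow_right hp.out.pos (by norm_num)).trans hA3')) hv).le
      exact le_join θ ⟨b, b.2.1, rfl⟩ fun e => b.2.2 (by simpa using e)
    exact hle ⟨x, hx, rfl⟩
  have hW := (join_eq hC heq hbal hcomp hA hA3 le_rfl hA2).2
  have h := CfsgLib.PCore.le_pPrimeCore hn
    ((hp.out.coprime_iff_not_dvd.2 hW).symm)
  rw [hO] at h
  exact le_bot_iff.1 ((le_join θ haA (by rintro rfl; exact hp.out.ne_one (by simpa using ha.1.symm))).trans h)

omit hC heq hbal hcomp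

theorem map_centralizerPPrimeCore_conj (a g : G) :
    (Cfsg.centralizerPPrimeCore p a).map (MulAut.conj g).toMonoidHom =
      Cfsg.centralizerPPrimeCore p (g * a * g⁻¹) := by
  have key : ∀ a g : G, (Cfsg.centralizerPPrimeCore p a).map (MulAut.conj g).toMonoidHom ≤
      Cfsg.centralizerPPrimeCore p (g * a * g⁻¹) := by
    rintro a g _ ⟨_, ⟨x, hx, rfl⟩, rfl⟩
    let e : ↥(centralizer ({a} : Set G)) ≃* ↥(centralizer ({g * a * g⁻¹} : Set G)) :=
      ((MulAut.conj g).subgroupMap _).trans (MulEquiv.subgroupCongr (by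
        ext y
        rw [mem_centralizer_singleton_iff]
        constructor
        · rintro ⟨z, hz, rfl⟩
          have hz' := mem_centralizer_singleton_iff.1 hz
          show g * z * g⁻¹ * (g * a * g⁻¹) = g * a * g⁻¹ * (g * z * g⁻¹)
          calc g * z * g⁻¹ * (g * a * g⁻¹) = g * (z * a) * g⁻¹ := by group
            _ = g * (a * z) * g⁻¹ := by rw [hz']
            _ = g * a * g⁻¹ * (g * z * g⁻¹) := by group
        · intro h
          refine ⟨g⁻¹ * y * g, mem_centralizer_singleton_iff.2 ?_, by simp [mul_assoc]⟩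
          calc g⁻¹ * y * g * a = g⁻¹ * (y * (g * a * g⁻¹)) * g := by group
            _ = g⁻¹ * (g * a * g⁻¹ * y) * g := by rw [h]
            _ = a * (g⁻¹ * y * g) := by group))
    refine ⟨e x, ?_, rfl⟩
    rw [← CfsgLib.PCore.map_pPrimeCore_equiv e]
    exact ⟨x, hx, rfl⟩
  refine le_antisymm (key a g) fun y hy => ?_
  have h := key (g * a * g⁻¹) g⁻¹ ⟨y, hy, rfl⟩
  rw [show g⁻¹ * (g * a * g⁻¹) * g⁻¹⁻¹ = a by group] at h
  exact ⟨_, h, by simp [mul_assoc]⟩

theorem centralizerPPrimeCore_balance {a b : G} (ha : orderOf a = p)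
    (hb : Cfsg.pLayer p ↥(centralizer ({b} : Set G)) = ⊥) (hab : a * b = b * a) :
    Cfsg.centralizerPPrimeCore p a ⊓ centralizer {b} ≤ Cfsg.centralizerPPrimeCore p b := by
  set H := centralizer ({b} : Set G)
  let a' : H := ⟨a, mem_centralizer_singleton_iff.2 hab⟩
  have ha' : orderOf a' = p := by rw [← orderOf_coe]; exact ha
  have hP : IsPGroup p (zpowers a') := IsPGroup.of_card (n := 1) (by rw [Nat.card_zpowers, ha', pow_one])
  have hP1 : zpowers a' ≠ ⊥ := fun h => hp.out.ne_one (by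
    rw [← ha', zpowers_eq_bot.1 h, orderOf_one])
  have hloc := (Cfsg.Agent.S1293.result p hb (zpowers a') hP hP1).2
  intro d hd
  set N := normalizer (zpowers a' : Set H)
  let D : Subgroup N := ((Cfsg.centralizerPPrimeCore p a).subgroupOf H).subgroupOf N
  have hdN : (⟨d, hd.2⟩ : H) ∈ N := centralizer_le_normalizer _ (by
    rw [CfsgLib.Signalizer.centralizer_zpowers, mem_centralizer_singleton_iff]
    exact Subtype.ext (mem_centralizer_singleton_iff.1
      (CfsgLib.Tech46.centralizerPPrimeCore_le a hd.1)))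
  have hn : D.Normal := by
    refine ⟨fun x hx n => ?_⟩
    have hgen : zpowers ((n : H) * a' * (n : H)⁻¹) = zpowers a' := by
      refine eq_of_le_of_card_ge (zpowers_le.2 ((mem_normalizer_iff.1 n.2 a').1 (mem_zpowers a'))) ?_
      rw [Nat.card_zpowers, Nat.card_zpowers]
      exact (MulEquiv.orderOf_eq (MulAut.conj (n : H)) a').ge
    have hgen' : zpowers (((n : H) : G) * a * ((n : H) : G)⁻¹) = zpowers a := by
      simpa [MonoidHom.map_zpowers, a'] using congrArg (Subgroup.map H.subtype) hgen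
    show ((n : H) : G) * ((x : H) : G) * ((n : H) : G)⁻¹ ∈ Cfsg.centralizerPPrimeCore p a
    rw [CfsgLib.Components.centralizerPPrimeCore_eq_zpowers, ← hgen',
      ← CfsgLib.Components.centralizerPPrimeCore_eq_zpowers, ← map_centralizerPPrimeCore_conj]
    exact ⟨_, hx, rfl⟩
  have hcop : (Nat.card D).Coprime p := by
    refine Nat.Coprime.coprime_dvd_left ?_ (CfsgLib.Tech46.centralizerPPrimeCore_coprime a)
    let f : D →* Cfsg.centralizerPPrimeCore p a :=
      { toFun := fun x => ⟨((x : N) : H), x.2⟩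
        map_one' := rfl
        map_mul' := fun _ _ => rfl }
    exact card_dvd_of_injective f
      fun x y h => Subtype.ext (Subtype.ext (Subtype.ext (congrArg (fun z : Cfsg.centralizerPPrimeCore p a => (z : G)) h)))
  exact ⟨⟨d, hd.2⟩, hloc ⟨⟨_, hdN⟩, CfsgLib.PCore.le_pPrimeCore hn hcop (show (⟨_, hdN⟩ : N) ∈ D from hd.1), rfl⟩, rfl⟩

/-- The trivial layer case. -/
theorem generalizedFitting_eq (hcomp : Completion G p) (hO : Cfsg.pPrimeCore p G = ⊥)
    (hconn : Cfsg.IsRankGraphConnected p 2 G)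
    (hL : ∀ a : G, Deep p a → Cfsg.pLayer p ↥(centralizer ({a} : Set G)) = ⊥ ∧
      Group.IsSolvable ↥(Cfsg.centralizerPPrimeCore p a)) {a : G} (ha : Deep p a) :
    Cfsg.generalizedFittingSubgroup ↥(centralizer ({a} : Set G)) =
      Cfsg.pCore p ↥(centralizer ({a} : Set G)) := by
  have hbot : Cfsg.centralizerPPrimeCore p a = ⊥ :=
    eq_bot (θ := Cfsg.centralizerPPrimeCore p)
      (fun b hb => ⟨CfsgLib.Tech46.centralizerPPrimeCore_le b,
        hp.out.coprime_iff_not_dvd.1 (CfsgLib.Tech46.centralizerPPrimeCore_coprime b).symm, (hL b hb).2⟩)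
      (fun b g _ => (map_centralizerPPrimeCore_conj b g).symm)
      (fun b c hb hc h => centralizerPPrimeCore_balance hb.1 (hL c hc).1 h) hcomp hO hconn ha
  set C := centralizer ({a} : Set G)
  have hOC : Cfsg.pPrimeCore p C = ⊥ := (map_eq_bot_iff_of_injective _ C.subtype_injective).1 hbot
  refine CfsgLib.Components.generalizedFitting_eq_pCore_of_centralizer_le p
    (CfsgLib.Components.centralizer_pCore_le_of_no_component hOC fun K hK => ?_)
  exact CfsgLib.Components.pLayer_eq_bot_iff.1 (hL a ha).1 _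
    (CfsgLib.Components.isComponent_map_equiv
      (((QuotientGroup.quotientMulEquivOfEq hOC).trans QuotientGroup.quotientBot).symm) hK)

end CfsgLib.Signalizer63
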